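import Cfsg.Agent.H3.Simple

/-!
The three-dimensional unitary group: hyperbolic triples, the fixer of an isotropic vector, and
commutators inside it.
-/

set_option autoImplicit false

namespace Cfsg.Agent.H14.UThree

open Matrix
open scoped commutatorElement

variable {F : Type*} [Field F] {q : ℕ}

/-- The action on vectors. -/
@[reducible] def vecAction : MulAction (SU 3 F q) (Fin 3 → F) where
  smul g y := (g.1 : Matrix (Fin 3) (Fin 3) F) *ᵥ y
  one_smul y := by
    show ((1 : SU 3 F q).1 : Matrix (Fin 3) (Fin 3) F) *ᵥ y = y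
    simp
  mul_smul g g' y := H3.SU_mul_mulVec g g' y

attribute [local instance] vecAction

theorem smul_def (g : SU 3 F q) (y : Fin 3 → F) :
    g • y = (g.1 : Matrix (Fin 3) (Fin 3) F) *ᵥ y := rfl

theorem smul_add' (g : SU 3 F q) (y z : Fin 3 → F) : g • (y + z) = g • y + g • z :=
  Matrix.mulVec_add _ _ _

theorem smul_sub' (g : SU 3 F q) (y z : Fin 3 → F) : g • (y - z) = g • y - g • z :=
  Matrix.mulVec_sub _ _ _

theorem smul_comm' (g : SU 3 F q) (c : F) (y : Fin 3 → F) : g • (c • y) = c • (g • y) :=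
  Matrix.mulVec_smul _ _ _

theorem form_smul (g : SU 3 F q) (y z : Fin 3 → F) :
    hermForm 3 F q (g • y) (g • z) = hermForm 3 F q y z :=
  H3.mem_SU_iff.1 g.2 y z

variable [Fintype F]

/-- A basis `v, x, w` with `v`, `w` isotropic, `h (w, v) = 1` and `x` of norm one orthogonal to
both. -/
structure Trip (q : ℕ) (v x w : Fin 3 → F) : Prop where
  vv : hermForm 3 F q v v = 0
  ww : hermForm 3 F q w w = 0
  wv : hermForm 3 F q w v = 1
  xx : hermForm 3 F q x x = 1
  xv : hermForm 3 F q x v = 0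
  xw : hermForm 3 F q x w = 0

variable (hF : Fintype.card F = q ^ 2)
include hF

theorem Trip.vw {v x w : Fin 3 → F} (T : Trip q v x w) : hermForm 3 F q v w = 1 := by
  rw [← H3.hermForm_pow_q hF, T.wv, one_pow]

theorem Trip.vx {v x w : Fin 3 → F} (T : Trip q v x w) : hermForm 3 F q v x = 0 :=
  (H3.hermForm_eq_zero_comm hF).1 T.xv

theorem Trip.wx {v x w : Fin 3 → F} (T : Trip q v x w) : hermForm 3 F q w x = 0 :=
  (H3.hermForm_eq_zero_comm hF).1 T.xw

theorem Trip.linearIndependent {v x w : Fin 3 → F} (T : Trip q v x w) :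
    LinearIndependent F ![v, x, w] := by
  rw [Fintype.linearIndependent_iff]
  intro c hc
  rw [Fin.sum_univ_three] at hc
  simp only [Matrix.cons_val_zero, Matrix.cons_val_one, Matrix.cons_val] at hc
  have e := fun y => congrArg (fun z => hermForm 3 F q z y) hc
  have e0 := e v; have e1 := e x; have e2 := e w
  simp only [H3.hermForm_add_left hF, H3.hermForm_smul_left hF, H3.hermForm_zero_left hF, T.vv,
    T.ww, T.wv, T.xx, T.xv, T.xw, T.vw hF, T.vx hF, T.wx hF, mul_zero, mul_one, add_zero,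
    zero_add] at e0 e1 e2
  intro i
  fin_cases i <;> assumption

/-- The basis of a triple. -/
noncomputable def Trip.basis {v x w : Fin 3 → F} (T : Trip q v x w) :
    Module.Basis (Fin 3) F (Fin 3 → F) :=
  basisOfLinearIndependentOfCardEqFinrank (T.linearIndependent hF) (by simp)

theorem Trip.coord {v x w : Fin 3 → F} (T : Trip q v x w) (y : Fin 3 → F) :
    y = hermForm 3 F q y w • v + hermForm 3 F q y x • x + hermForm 3 F q y v • w := by
  have h : y ∈ Submodule.span F (Set.range ![v, x, w]) := by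
    have := (T.basis hF).mem_span y
    rwa [Trip.basis, coe_basisOfLinearIndependentOfCardEqFinrank] at this
  obtain ⟨c, rfl⟩ := (Submodule.mem_span_range_iff_exists_fun F).1 h
  rw [Fin.sum_univ_three]
  simp only [Matrix.cons_val_zero, Matrix.cons_val_one, Matrix.cons_val,
    H3.hermForm_add_left hF, H3.hermForm_smul_left hF, T.vv,
    T.ww, T.wv, T.xx, T.xv, T.xw, T.vw hF, T.vx hF, T.wx hF, mul_zero, mul_one, add_zero,
    zero_add]

theorem Trip.ext_smul {v x w : Fin 3 → F} (T : Trip q v x w) {g g' : SU 3 F q}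
    (h1 : g • v = g' • v) (h2 : g • x = g' • x) (h3 : g • w = g' • w) : g = g' := by
  refine H3.SU_ext (Matrix.ext_of_mulVec_single fun i => ?_)
  show g • (Pi.single i 1 : Fin 3 → F) = g' • (Pi.single i 1 : Fin 3 → F)
  rw [T.coord hF (Pi.single i 1)]
  simp only [smul_add', smul_comm', h1, h2, h3]

theorem exists_trip {v : Fin 3 → F} (hv : v ≠ 0) (hv0 : hermForm 3 F q v v = 0) :
    ∃ x w, Trip q v x w := by
  obtain ⟨x, hxx, hvx⟩ := H3.exists_norm_one_orth hF le_rfl hv hv0
  have hxv := (H3.hermForm_eq_zero_comm hF).1 hvx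
  obtain ⟨s, hs⟩ := H3.exists_hermForm_eq_one hF hv
  set s1 := s - hermForm 3 F q s x • x with hs1
  have e1 : hermForm 3 F q s1 v = 1 := by
    rw [hs1, H3.hermForm_sub_left hF, H3.hermForm_smul_left hF, hxv, mul_zero, sub_zero, hs]
  have e2 : hermForm 3 F q s1 x = 0 := by
    rw [hs1, H3.hermForm_sub_left hF, H3.hermForm_smul_left hF, hxx, mul_one, sub_self]
  have e1' : hermForm 3 F q v s1 = 1 := by rw [← H3.hermForm_pow_q hF, e1, one_pow]
  obtain ⟨t, ht⟩ := H3.exists_trace_eq hF (a := -hermForm 3 F q s1 s1)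
    (by rw [← H3.conjQ_apply hF, map_neg, H3.conjQ_apply, H3.hermForm_pow_q hF])
  refine ⟨x, s1 + t • v, hv0, ?_, ?_, hxx, hxv, ?_⟩
  · simp only [H3.hermForm_add_left hF, H3.hermForm_add_right hF, H3.hermForm_smul_left hF,
      H3.hermForm_smul_right hF, hv0, e1, e1', mul_zero, mul_one, add_zero]
    linear_combination ht
  · rw [H3.hermForm_add_left hF, H3.hermForm_smul_left hF, e1, hv0, mul_zero, add_zero]
  · rw [H3.hermForm_add_right hF, H3.hermForm_smul_right hF, hxv, mul_zero, add_zero]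
    exact (H3.hermForm_eq_zero_comm hF).1 e2

omit hF in
/-- The elements fixing `v` and inducing the identity on `v^⊥ / v`. -/
def unip (q : ℕ) (v : Fin 3 → F) : Subgroup (SU 3 F q) where
  carrier := {g | g • v = v ∧ ∀ y, hermForm 3 F q y v = 0 → ∃ a : F, g • y = y + a • v}
  one_mem' := ⟨one_smul _ _, fun y _ => ⟨0, by rw [one_smul, zero_smul, add_zero]⟩⟩
  mul_mem' {g k} hg hk := ⟨by rw [mul_smul, hk.1, hg.1], fun y hy => by
    obtain ⟨a, ha⟩ := hk.2 y hy
    obtain ⟨b, hb⟩ := hg.2 y hy
    exact ⟨b + a, by rw [mul_smul, ha, smul_add', hb, smul_comm', hg.1, add_smul, add_assoc]⟩⟩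
  inv_mem' {g} hg := ⟨by rw [inv_smul_eq_iff, hg.1], fun y hy => by
    obtain ⟨a, ha⟩ := hg.2 y hy
    refine ⟨-a, ?_⟩
    rw [inv_smul_eq_iff, smul_add', ha, smul_comm', hg.1, neg_smul, add_neg_cancel_right]⟩

/-- A transvection with centre `v` lies in `unip v`. -/
theorem trans_mem_unip {v : Fin 3 → F} (hv : hermForm 3 F q v v = 0) {c : F} {g : SU 3 F q}
    (hg : (g.1 : Matrix (Fin 3) (Fin 3) F) = unitaryTransvection 3 q v c) : g ∈ unip q v := by
  refine ⟨?_, fun y hy => ⟨0, ?_⟩⟩
  · rw [smul_def, hg, H3.unitaryTransvection_mulVec, hv, mul_zero, zero_smul, add_zero]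
  · rw [smul_def, hg, H3.unitaryTransvection_mulVec, hy, mul_zero, zero_smul, add_zero]

/-- An element of `unip v` fixing the middle vector is a transvection. -/
theorem Trip.trans_of_fix {v x w : Fin 3 → F} (T : Trip q v x w) {g : SU 3 F q}
    (hg : g ∈ unip q v) (hx : g • x = x) :
    ∃ c : F, c + c ^ q = 0 ∧ (g.1 : Matrix (Fin 3) (Fin 3) F) = unitaryTransvection 3 q v c := by
  set c := hermForm 3 F q (g • w) w with hc
  have h1 : hermForm 3 F q (g • w) x = 0 := by
    conv_lhs => rw [← hx]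
    rw [form_smul, T.wx hF]
  have h2 : hermForm 3 F q (g • w) v = 1 := by
    conv_lhs => rw [← hg.1]
    rw [form_smul, T.wv]
  have hw : g • w = c • v + w := by
    conv_lhs => rw [T.coord hF (g • w), h1, h2]
    rw [zero_smul, one_smul, add_zero]
  refine ⟨c, ?_, Matrix.ext_of_mulVec_single fun i => ?_⟩
  · have := form_smul g w w
    rw [hw, H3.hermForm_add_left hF, H3.hermForm_add_right hF, H3.hermForm_add_right hF,
      H3.hermForm_smul_left hF, H3.hermForm_smul_left hF, H3.hermForm_smul_right hF,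
      H3.hermForm_smul_right hF, T.vv, T.vw hF, T.wv, T.ww] at this
    linear_combination this
  · rw [H3.unitaryTransvection_mulVec, ← smul_def]
    generalize (Pi.single i 1 : Fin 3 → F) = y
    conv_lhs => rw [T.coord hF y, smul_add', smul_add', smul_comm', smul_comm', smul_comm', hg.1,
      hx, hw]
    conv_rhs => rw [T.coord hF y]
    simp only [H3.hermForm_add_left hF, H3.hermForm_smul_left hF, T.vv, T.xv, T.wv]
    module

/-- The root elements lie in `unip v`. -/
theorem root_mem_unip {v y : Fin 3 → F} {a : F} (hv : hermForm 3 F q v v = 0)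
    (hy : hermForm 3 F q v y = 0) (ha : a + a ^ q + hermForm 3 F q y y = 0) :
    H3.suRoot hF v y a hv hy ha ∈ unip q v := by
  refine ⟨?_, fun z hz => ⟨-hermForm 3 F q z y, ?_⟩⟩
  · show H3.rootMat q v y a *ᵥ v = v
    rw [H3.rootMat_mulVec, hv, hy]
    simp
  · show H3.rootMat q v y a *ᵥ z = _
    rw [H3.rootMat_mulVec, hz]
    simp [sub_eq_add_neg]

/-- Every transvection with centre `v` is a commutator of two elements of `unip v`. -/
theorem trans_commutator {v : Fin 3 → F} (hv : v ≠ 0) (hv0 : hermForm 3 F q v v = 0) {c : F}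
    (hc : c + c ^ q = 0) (A : SU 3 F q)
    (hA : (A.1 : Matrix (Fin 3) (Fin 3) F) = unitaryTransvection 3 q v c) :
    ∃ P ∈ unip q v, ∃ R ∈ unip q v, A = ⁅P, R⁆ := by
  obtain ⟨θ, hθ⟩ := H3.exists_sub_eq hF hc
  obtain ⟨x, hx1, hx⟩ := H3.exists_norm_one_orth hF le_rfl hv hv0
  obtain ⟨a, ha⟩ := H3.exists_trace_eq hF (a := (-1 : F))
    (by rw [← H3.conjQ_apply hF, map_neg, map_one])
  have hθq := H3.norm_pow_q hF θ
  have hy : hermForm 3 F q v (θ • x) = 0 := by rw [H3.hermForm_smul_right hF, hx, mul_zero]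
  have haP : a + a ^ q + hermForm 3 F q x x = 0 := by rw [hx1]; linear_combination ha
  have haR : θ ^ (q + 1) * a + (θ ^ (q + 1) * a) ^ q + hermForm 3 F q (θ • x) (θ • x) = 0 := by
    rw [H3.hermForm_smul_left hF, H3.hermForm_smul_right hF, hx1, mul_pow, hθq]
    linear_combination (θ ^ (q + 1)) * ha
  set P := H3.suRoot hF v x a hv0 hx haP with hP
  set R := H3.suRoot hF v (θ • x) (θ ^ (q + 1) * a) hv0 hy haR with hR
  refine ⟨P, root_mem_unip hF hv0 hx haP, R, root_mem_unip hF hv0 hy haR, ?_⟩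
  have key : P * R = A * (R * P) := H3.SU_ext (by
    rw [H3.SU_mul_val, H3.SU_mul_val, H3.SU_mul_val, hA, ← H3.rootMat_zero hF]
    change H3.rootMat q v x a * H3.rootMat q v (θ • x) (θ ^ (q + 1) * a)
      = H3.rootMat q v 0 c * (H3.rootMat q v (θ • x) (θ ^ (q + 1) * a) * H3.rootMat q v x a)
    rw [H3.rootMat_mul hF hv0 hx hy, H3.rootMat_mul hF hv0 hy hx,
      H3.rootMat_mul hF hv0 (H3.hermForm_zero_right hF v)
        (by rw [H3.hermForm_add_right hF, hy, hx, add_zero]),
      zero_add, add_comm (θ • x) x, H3.hermForm_zero_right hF, sub_zero, H3.hermForm_smul_left hF,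
      H3.hermForm_smul_right hF, hx1]
    congr 1
    linear_combination hθ)
  rw [commutatorElement_def, key]
  group

/-- The fixer of an isotropic vector is `unip v`. -/
theorem stabilizer_eq_unip {v : Fin 3 → F} (hv : v ≠ 0) (hv0 : hermForm 3 F q v v = 0) :
    MulAction.stabilizer (SU 3 F q) v = unip q v := by
  refine le_antisymm (fun g hg => ?_) fun g hg => hg.1
  rw [MulAction.mem_stabilizer_iff] at hg
  obtain ⟨x, w, T⟩ := exists_trip hF hv hv0
  have hxv : hermForm 3 F q (g • x) v = 0 := by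
    conv_lhs => rw [← hg]
    rw [form_smul, T.xv]
  have hwv : hermForm 3 F q (g • w) v = 1 := by
    conv_lhs => rw [← hg]
    rw [form_smul, T.wv]
  set μ := hermForm 3 F q (g • x) x with hμ
  have ex : g • x = hermForm 3 F q (g • x) w • v + μ • x := by
    conv_lhs => rw [T.coord hF (g • x), hxv]
    rw [zero_smul, add_zero]
  have ew : g • w = hermForm 3 F q (g • w) w • v + hermForm 3 F q (g • w) x • x + w := by
    conv_lhs => rw [T.coord hF (g • w), hwv]
    rw [one_smul]
  have hdet : LinearMap.det (Matrix.toLin' (g.1 : Matrix (Fin 3) (Fin 3) F)) = μ := by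
    rw [← LinearMap.det_toMatrix (T.basis hF), Matrix.det_fin_three]
    have hb : ∀ j, (T.basis hF) j = ![v, x, w] j := fun j => by
      rw [Trip.basis, coe_basisOfLinearIndependentOfCardEqFinrank]
    have ent : ∀ i j (c : Fin 3 → F), g • ![v, x, w] j = ∑ k, c k • ![v, x, w] k →
        LinearMap.toMatrix (T.basis hF) (T.basis hF)
          (Matrix.toLin' (g.1 : Matrix (Fin 3) (Fin 3) F)) i j = c i := by
      intro i j c h
      rw [LinearMap.toMatrix_apply, hb, Matrix.toLin'_apply, ← smul_def, h]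
      simp only [← hb]
      exact congrFun ((T.basis hF).repr_sum_self c) i
    have c0 := fun i => ent i 0 ![1, 0, 0] (by
      rw [Fin.sum_univ_three]; simp [hg])
    have c1 := fun i => ent i 1 ![hermForm 3 F q (g • x) w, μ, 0] (by
      rw [Fin.sum_univ_three]; simpa using ex)
    have c2 := fun i => ent i 2 ![hermForm 3 F q (g • w) w, hermForm 3 F q (g • w) x, 1] (by
      rw [Fin.sum_univ_three]; simpa using ew)
    simp [c0, c1, c2]
  have hμ1 : μ = 1 := by
    rw [← hdet, LinearMap.det_toLin']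
    exact g.1.2
  refine ⟨hg, fun y hy => ?_⟩
  refine ⟨hermForm 3 F q y x * hermForm 3 F q (g • x) w, ?_⟩
  conv_lhs => rw [T.coord hF y, hy, zero_smul, add_zero, smul_add', smul_comm', smul_comm', hg,
    ex, hμ1]
  conv_rhs =>
    enter [1]
    rw [T.coord hF y, hy, zero_smul, add_zero]
  module

end Cfsg.Agent.H14.UThree
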